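import Mathlib
import Cfsg.Prelude.Def_DegreeGraph
import Cfsg.Agent.Lib.Helper7.Cd3K
import Cfsg.Agent.Lib.Helper7.Cd3G

set_option autoImplicit false
set_option linter.unusedSectionVars false
set_option linter.style.haveILetI false

/-!
# The degree graph of a solvable group has at most two components (Manz)
-/

namespace Cfsg.Agent.S4811L

open Cfsg Module Cfsg.Agent.Lib.helper3.Irr Cfsg.Agent.Lib.helper3.IndFun
open Cfsg.Agent.Lib.helper3.CharBasic Cfsg.Agent.Lib.helper3.Central
open Cfsg.Agent.Lib.helper3.TwoDeg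
open Cfsg.Agent.Lib.Helper7.ThreeDeg Cfsg.Agent.Lib.Helper7.Cd3 Cfsg.Agent.Lib.Helper7.CdPrime
open scoped ComplexConjugate
open scoped commutatorElement

universe u

section graph

variable {V : Type*} (Γ : SimpleGraph V)

theorem card_cc_le_two_of_reach (a b : V) (h : ∀ v, Γ.Reachable a v ∨ Γ.Reachable b v) :
    Nat.card Γ.ConnectedComponent ≤ 2 := by
  classical
  let f : Fin 2 → Γ.ConnectedComponent :=
    fun i => if i = 0 then Γ.connectedComponentMk a else Γ.connectedComponentMk b
  have hf : Function.Surjective f := by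
    intro c
    induction c using SimpleGraph.ConnectedComponent.ind with
    | _ v =>
      rcases h v with h1 | h1
      · exact ⟨0, by simpa [f] using SimpleGraph.ConnectedComponent.sound h1⟩
      · exact ⟨1, by simpa [f] using SimpleGraph.ConnectedComponent.sound h1⟩
  have := Nat.card_le_card_of_surjective f hf
  simpa using this

theorem card_cc_eq_zero_of_isEmpty [IsEmpty V] : Nat.card Γ.ConnectedComponent = 0 := by
  have : IsEmpty Γ.ConnectedComponent := by
    constructor
    intro c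
    induction c using SimpleGraph.ConnectedComponent.ind with
    | _ v => exact isEmptyElim v
  exact Nat.card_of_isEmpty

end graph

section dg

variable {G : Type u} [Group G]

theorem deg_mem_charDegrees (χ : IrrCharacter G) : deg χ ∈ charDegrees G := ⟨χ, rfl⟩

theorem mem_degreePrimes_of_dvd {r : ℕ} (hr : r.Prime) (χ : IrrCharacter G) (h : r ∣ deg χ) :
    r ∈ degreePrimes G := ⟨hr, deg χ, deg_mem_charDegrees χ, h⟩

theorem adj_of_dvd {r s : ℕ} (hr : r.Prime) (hs : s.Prime) (hne : r ≠ s) (χ : IrrCharacter G)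
    (h1 : r ∣ deg χ) (h2 : s ∣ deg χ) : (degreeGraph G).Adj r s :=
  ⟨hne, hr, hs, deg χ, deg_mem_charDegrees χ,
    Nat.Coprime.mul_dvd_of_dvd_of_dvd ((Nat.coprime_primes hr hs).mpr hne) h1 h2⟩

/-- Two primes dividing a common degree are joined in the induced graph. -/
theorem reach_of_dvd (x y : degreePrimes G) (χ : IrrCharacter G)
    (h1 : (x : ℕ) ∣ deg χ) (h2 : (y : ℕ) ∣ deg χ) :
    ((degreeGraph G).induce (degreePrimes G)).Reachable x y := by
  by_cases hxy : (x : ℕ) = y
  · have : x = y := Subtype.ext hxy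
    rw [this]
  · apply SimpleGraph.Adj.reachable
    rw [SimpleGraph.induce_adj]
    exact adj_of_dvd x.2.1 y.2.1 hxy χ h1 h2

end dg


section main

variable {G : Type u} [Group G] [Fintype G]

/-- Case A: the maximal nonabelian quotient is a `p`-group: every vertex is joined to `p`. -/
theorem caseA (K : Subgroup G) [K.Normal] (p : ℕ) (hp : p.Prime)
    (hKp : IsPGroup p (G ⧸ K)) (hna : ¬ ∀ a b : G ⧸ K, a * b = b * a) :
    ∃ hpV : p ∈ degreePrimes G, ∀ v : degreePrimes G,
      ((degreeGraph G).induce (degreePrimes G)).Reachable ⟨p, hpV⟩ v := by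
  classical
  letI : Fintype (G ⧸ K) := Fintype.ofFinite _
  letI : Fintype K := Fintype.ofFinite _
  haveI : Fact p.Prime := ⟨hp⟩
  obtain ⟨j, hj⟩ := IsPGroup.iff_card.mp hKp
  have hsolv : Group.IsSolvable (G ⧸ K) := solvable_of_card_prime_pow hp hj
  obtain ⟨β, hβ⟩ := exists_deg_ne_one hna
  have hpβ : p ∣ deg β := by
    have h1 := deg_dvd_card β
    rw [hj] at h1
    obtain ⟨i, -, hi⟩ := (Nat.dvd_prime_pow hp).mp h1
    rw [hi]
    rcases Nat.eq_zero_or_pos i with h0 | h0
    · rw [h0, pow_zero] at hi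
      exact absurd hi hβ
    · exact dvd_pow_self p h0.ne'
  have hidx : K.index = p ^ j := by rw [Subgroup.index_eq_card, hj]
  have key : ∀ χ : IrrCharacter G, ¬ p ∣ deg χ → ∃ ξ : IrrCharacter G, deg ξ = deg β * deg χ := by
    intro χ hpχ
    obtain ⟨θ, hθ⟩ := exists_under K χ
    have h1 := deg_dvd_of_under K χ θ hθ
    have h2 := deg_dvd_mul_index K hsolv χ θ hθ
    rw [hidx] at h2
    have hcop : (deg χ).Coprime (p ^ j) :=
      Nat.Coprime.pow_right j (Nat.Coprime.symm ((Nat.Prime.coprime_iff_not_dvd hp).mpr hpχ))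
    have h3 : deg χ = deg θ := Nat.dvd_antisymm (hcop.dvd_of_dvd_mul_right h2) h1
    have hres : (fun k : K => (χ : G → ℂ) k) = (θ : K → ℂ) := by
      apply eq_of_constituent_of_degree_eq (isCharacter_restrict (isChar χ) K) θ hθ
      simp only [OneMemClass.coe_one]
      rw [deg_spec, deg_spec, h3]
    have hirr : IsIrrCharacter K (fun k : K => (χ : G → ℂ) k) := by
      rw [hres]
      exact θ.2
    have hχ1 : (χ : G → ℂ) 1 ≠ 0 := by
      rw [deg_spec]
      exact_mod_cast (deg_pos χ).ne'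
    have hg := (Cfsg.Agent.Lib.helper3.Irr.gallagher_inflate K (χ : G → ℂ) (isChar χ) hχ1 hirr).1 β
    refine ⟨⟨_, hg⟩, ?_⟩
    apply deg_eq
    simp only
    rw [Pi.mul_apply, inflate_apply, QuotientGroup.mk_one, deg_spec, deg_spec]
    push_cast
    rfl
  have hβG : deg (infl K β) = deg β := deg_infl K β
  have hpV : p ∈ degreePrimes G := mem_degreePrimes_of_dvd hp (infl K β) (by rw [hβG]; exact hpβ)
  refine ⟨hpV, ?_⟩
  intro v
  obtain ⟨hvp, d, ⟨χ, rfl⟩, hvd⟩ := v.2
  have hvd' : (v : ℕ) ∣ deg χ := hvd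
  by_cases hpχ : p ∣ deg χ
  · exact reach_of_dvd ⟨p, hpV⟩ v χ hpχ hvd'
  · obtain ⟨ξ, hξ⟩ := key χ hpχ
    apply reach_of_dvd ⟨p, hpV⟩ v ξ
    · rw [hξ]; exact Dvd.dvd.mul_right hpβ _
    · rw [hξ]; exact Dvd.dvd.mul_left hvd' _


/-- Case B: the maximal nonabelian quotient is a Frobenius group with kernel `N` an abelian
`p`-group and abelian complement of order `f`: every vertex is joined to a fixed prime divisor
of `f`, or is joined to `p`. -/
theorem caseB (K : Subgroup G) [hK : K.Normal] (p : ℕ) (hp : p.Prime)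
    (hsolvQ : Group.IsSolvable (G ⧸ K)) (hna : ¬ ∀ a b : G ⧸ K, a * b = b * a)
    (hNp : IsPGroup p (commutator (G ⧸ K)))
    (hNab : ∀ a ∈ commutator (G ⧸ K), ∀ b ∈ commutator (G ⧸ K), a * b = b * a)
    (hfrob : ∀ g : G ⧸ K, g ∉ commutator (G ⧸ K) → ∀ x ∈ commutator (G ⧸ K),
      g * x = x * g → x = 1) :
    ∃ a : degreePrimes G, ∀ v : degreePrimes G,
      ((degreeGraph G).induce (degreePrimes G)).Reachable a v ∨
      ∃ hpV : p ∈ degreePrimes G,
        ((degreeGraph G).induce (degreePrimes G)).Reachable ⟨p, hpV⟩ v := by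
  classical
  set N := commutator (G ⧸ K) with hN
  letI : Fintype (preim K N) := Fintype.ofFinite _
  have hNne : N ≠ ⊥ := commutator_ne_bot_of_nonabelian hna
  have hNtop : N ≠ ⊤ := commutator_ne_top_of_solvable hsolvQ hna
  have hf1 : N.index ≠ 1 := fun h => hNtop (Subgroup.index_eq_one.mp h)
  have hidx : (preim K N).index = N.index :=
    Subgroup.index_comap_of_surjective N (QuotientGroup.mk'_surjective K)
  obtain ⟨⟨χ₀, hχ₀, -⟩, hF⟩ := frob_degrees K N p hp hNp hNab hNne hfrob
  have hGL : commutator G ≤ preim K N := by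
    intro x hx
    show QuotientGroup.mk' K x ∈ N
    rw [hN, commutator_quotient K]
    exact ⟨x, hx, rfl⟩
  have hsolv : Group.IsSolvable (G ⧸ preim K N) :=
    Group.isSolvable_of_comm (quotient_comm_of_commutator_le _ hGL)
  -- a prime divisor of `f`
  obtain ⟨a, ha, haf⟩ := Nat.exists_prime_and_dvd hf1
  have haV : a ∈ degreePrimes G := mem_degreePrimes_of_dvd ha χ₀ (by rw [hχ₀]; exact haf)
  refine ⟨⟨a, haV⟩, ?_⟩
  intro v
  obtain ⟨hvp, d, ⟨χ, rfl⟩, hvd⟩ := v.2
  have hvd' : (v : ℕ) ∣ deg χ := hvd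
  by_cases hvf : (v : ℕ) ∣ N.index
  · left
    exact reach_of_dvd ⟨a, haV⟩ v χ₀ (by rw [hχ₀]; exact haf) (by rw [hχ₀]; exact hvf)
  · obtain ⟨ψ, hψ⟩ := exists_under (preim K N) χ
    have h1 := deg_dvd_of_under (preim K N) χ ψ hψ
    have h2 := deg_dvd_mul_index (preim K N) hsolv χ ψ hψ
    rw [hidx] at h2
    have hvψ : (v : ℕ) ∣ deg ψ := by
      rcases (Nat.Prime.dvd_mul hvp).mp (hvd'.trans h2) with h | h
      · exact h
      · exact absurd h hvf
    by_cases hpψ : p ∣ deg ψ
    · right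
      have hpχ : p ∣ deg χ := hpψ.trans h1
      have hpV : p ∈ degreePrimes G := mem_degreePrimes_of_dvd hp χ hpχ
      exact ⟨hpV, reach_of_dvd ⟨p, hpV⟩ v χ hpχ hvd'⟩
    · left
      obtain ⟨χ', hχ'⟩ := hF ψ hpψ
      apply reach_of_dvd ⟨a, haV⟩ v χ'
      · rw [hχ']; exact Dvd.dvd.mul_right haf _
      · rw [hχ']; exact Dvd.dvd.mul_left hvψ _

end main

section final

variable {G : Type u} [Group G] [Finite G]

theorem manz (hs : Group.IsSolvable G) :
    Nat.card ((degreeGraph G).induce (degreePrimes G)).ConnectedComponent ≤ 2 := by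
  classical
  letI : Fintype G := Fintype.ofFinite G
  by_cases hab : commutator G ≤ ⊥
  · -- abelian: no vertices
    have hempty : IsEmpty (degreePrimes G) := by
      constructor
      rintro ⟨r, hr, d, ⟨χ, rfl⟩, hrd⟩
      have h1 : deg χ = 1 := by
        apply deg_eq_one_of_commutator_le_ker χ
        intro x hx
        have := hab hx
        rw [Subgroup.mem_bot] at this
        rw [this]
      have hrd' : r ∣ deg χ := hrd
      rw [h1] at hrd'
      exact hr.one_lt.ne' (Nat.dvd_one.mp hrd')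
    rw [card_cc_eq_zero_of_isEmpty]
    exact Nat.zero_le _
  · obtain ⟨K, hKn, -, hK1, hmax⟩ := exists_max_nonabelian_quotient (⊥ : Subgroup G) hab
    haveI := hKn
    have h2 : ∃ n, derivedSeries G n ≤ K := by
      obtain ⟨n, hn⟩ := hs.solvable
      exact ⟨n, hn ▸ bot_le⟩
    obtain ⟨hsolvQ, hnaQ, hminQ⟩ := quotient_props K hK1 h2 hmax
    obtain ⟨p, hp, hcase⟩ := isaacs_12_3 hsolvQ hnaQ hminQ
    rcases hcase with hPG | ⟨hNp, hNab, -, hfrob⟩
    · obtain ⟨hpV, hreach⟩ := caseA K p hp hPG hnaQ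
      exact card_cc_le_two_of_reach _ ⟨p, hpV⟩ ⟨p, hpV⟩ (fun v => Or.inl (hreach v))
    · obtain ⟨a, hreach⟩ := caseB K p hp hsolvQ hnaQ hNp hNab hfrob
      by_cases hpV : p ∈ degreePrimes G
      · apply card_cc_le_two_of_reach _ a ⟨p, hpV⟩
        intro v
        rcases hreach v with h | ⟨_, h⟩
        · exact Or.inl h
        · exact Or.inr h
      · apply card_cc_le_two_of_reach _ a a
        intro v
        rcases hreach v with h | ⟨h', _⟩
        · exact Or.inl h
        · exact absurd h' hpV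

end final

end Cfsg.Agent.S4811L
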